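import Groth.Agent.ResProp.EF.K374.StabProd
import Groth.Agent.ResProp.EF.K62.Rho

/-!
# The group `H = Stab(e_0) × (GL_r1 × GL_rm)` of G1, its universal matrices and its points (helper265)

`HHG k N r1 rm : Gp k` is `K374.HH k N (GL_r1 × GL_rm)`; `gS`, `gX`, `gXm` its three universal matrices; algebra maps out of
`O(H)` are triples of matrices (`pt`, `ext_HH`).
-/

set_option autoImplicit false
set_option linter.unusedSectionVars false

universe u

open TensorProduct

noncomputable section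

namespace Groth.Agent.ResProp.EF.K265

open Groth.Agent.ResProp.EF Grp

/-- multiplicative matrices go to multiplicative matrices under bialgebra maps -/
lemma isMulMat_map {k : Type u} [CommRing k] {O O' : Type u} [CommRing O] [CommRing O'] [Bialgebra k O]
    [Bialgebra k O'] {ι : Type} [Fintype ι] [DecidableEq ι] {X : Matrix ι ι O} (h : K62.IsMulMat k X)
    (f : O →ₐc[k] O') : K62.IsMulMat k (X.map f) where
  unit := by
    have e : (X.map f).det = f X.det := by
      have := (RingHom.map_det ((f : O →ₐ[k] O') : O →+* O') X).symm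
      exact this
    rw [e]
    exact h.unit.map f
  comul i j := by
    change Coalgebra.comul (R := k) (f (X i j)) = _
    rw [← CoalgHomClass.map_comp_comul_apply f, h.comul, map_sum]
    rfl

section

variable (k : Type u) [CommRing k] (N r1 rm : ℕ)

/-- `GL_r1 × GL_rm` -/
abbrev GG2 : Gp k := K749.prodGp (K653.GpGL r1 k) (K653.GpGL rm k)

/-- `H = Stab(e_0) × (GL_r1 × GL_rm)`, `Stab(e_0) ⊆ GL_{N+1}` -/
abbrev HHG : Gp k := K374.HH k N (GG2 k r1 rm)

/-- `O(GL_r1) → O(H)` -/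
def in1 : (K653.GpGL r1 k).O →ₐc[k] (HHG k N r1 rm).O :=
  (K374.inrB : (GG2 k r1 rm).O →ₐc[k] (HHG k N r1 rm).O).comp
    (K374.inlB : (K653.GpGL r1 k).O →ₐc[k] (GG2 k r1 rm).O)

/-- `O(GL_rm) → O(H)` -/
def inm : (K653.GpGL rm k).O →ₐc[k] (HHG k N r1 rm).O :=
  (K374.inrB : (GG2 k r1 rm).O →ₐc[k] (HHG k N r1 rm).O).comp
    (K374.inrB : (K653.GpGL rm k).O →ₐc[k] (GG2 k r1 rm).O)

/-- `O(Stab) → O(H)` -/
def inS : (K374.St k N).O →ₐc[k] (HHG k N r1 rm).O :=
  (K374.inlB : (K374.St k N).O →ₐc[k] (HHG k N r1 rm).O)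

/-- the universal element of `GL_r1` -/
def gX : Matrix (Fin r1) (Fin r1) (HHG k N r1 rm).O := (CoordGrp.GLn.genMat r1 k).map (in1 k N r1 rm)

/-- the universal element of `GL_rm` -/
def gXm : Matrix (Fin rm) (Fin rm) (HHG k N r1 rm).O := (CoordGrp.GLn.genMat rm k).map (inm k N r1 rm)

/-- the universal element of `Stab(e_0)` -/
def gS : Matrix (Fin (N + 1)) (Fin (N + 1)) (HHG k N r1 rm).O := (K374.mS k N).map (inS k N r1 rm)

lemma isMulMat_gen (n : ℕ) : K62.IsMulMat k (O := (K653.GpGL n k).O) (CoordGrp.GLn.genMat n k) where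
  unit := (K374.univ_gl (k := k) n).mem
  comul i j := CoordGrp.GLn.comul_X i j

lemma isMulMat_mS : K62.IsMulMat k (O := (K374.St k N).O) (K374.mS k N) where
  unit := K374.mS_det k N
  comul := K374.comul_mS k N

lemma isMulMat_gX : K62.IsMulMat k (gX k N r1 rm) := isMulMat_map (isMulMat_gen k r1) _

lemma isMulMat_gXm : K62.IsMulMat k (gXm k N r1 rm) := isMulMat_map (isMulMat_gen k rm) _

lemma isMulMat_gS : K62.IsMulMat k (gS k N r1 rm) := isMulMat_map (isMulMat_mS k N) _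

lemma gS_col (i : Fin (N + 1)) : gS k N r1 rm i 0 = if i = 0 then 1 else 0 := by
  change inS k N r1 rm (K374.mS k N i 0) = _
  rw [K374.mS_col]
  split_ifs
  · exact map_one _
  · exact map_zero _

variable {k N r1 rm} {R : Type u} [CommRing R] [Algebra k R]

/-- **the point of `H` with coordinates `(g, X, Xm)`** -/
def pt (g : Matrix (Fin (N + 1)) (Fin (N + 1)) R) (hg : (K374.stab k (Fin (N + 1)) 0).P R g)
    (X : Matrix (Fin r1) (Fin r1) R) (hX : IsUnit X.det) (Xm : Matrix (Fin rm) (Fin rm) R) (hXm : IsUnit Xm.det) :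
    (HHG k N r1 rm).O →ₐ[k] R :=
  Algebra.TensorProduct.productMap ((K374.univS k N).pt g hg)
    (Algebra.TensorProduct.productMap ((K374.univ_gl (k := k) r1).pt X hX) ((K374.univ_gl (k := k) rm).pt Xm hXm))

section

variable (g : Matrix (Fin (N + 1)) (Fin (N + 1)) R) (hg : (K374.stab k (Fin (N + 1)) 0).P R g)
    (X : Matrix (Fin r1) (Fin r1) R) (hX : IsUnit X.det) (Xm : Matrix (Fin rm) (Fin rm) R) (hXm : IsUnit Xm.det)

lemma pt_gS (i j) : pt g hg X hX Xm hXm (gS k N r1 rm i j) = g i j := by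
  change (K374.univS k N).pt g hg (K374.mS k N i j) *
    (Algebra.TensorProduct.productMap ((K374.univ_gl (k := k) r1).pt X hX) ((K374.univ_gl (k := k) rm).pt Xm hXm)) 1 = _
  rw [map_one, mul_one, K374.Univ.pt_apply]

lemma pt_gX (i j) : pt g hg X hX Xm hXm (gX k N r1 rm i j) = X i j := by
  change (K374.univS k N).pt g hg 1 * ((K374.univ_gl (k := k) r1).pt X hX (CoordGrp.GLn.genMat r1 k i j) *
    (K374.univ_gl (k := k) rm).pt Xm hXm 1) = _
  rw [map_one, map_one, mul_one, one_mul]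
  exact (K374.univ_gl (k := k) r1).pt_apply X hX i j

lemma pt_gXm (i j) : pt g hg X hX Xm hXm (gXm k N r1 rm i j) = Xm i j := by
  change (K374.univS k N).pt g hg 1 * ((K374.univ_gl (k := k) r1).pt X hX 1 *
    (K374.univ_gl (k := k) rm).pt Xm hXm (CoordGrp.GLn.genMat rm k i j)) = _
  rw [map_one, map_one, one_mul, one_mul]
  exact (K374.univ_gl (k := k) rm).pt_apply Xm hXm i j

end

/-- algebra maps out of `O(H)` are determined by the three matrices -/
lemma ext_HH {f f' : (HHG k N r1 rm).O →ₐ[k] R} (hS : (gS k N r1 rm).map f = (gS k N r1 rm).map f')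
    (hX : (gX k N r1 rm).map f = (gX k N r1 rm).map f') (hXm : (gXm k N r1 rm).map f = (gXm k N r1 rm).map f') :
    f = f' := by
  refine Algebra.TensorProduct.ext' fun a b => ?_
  have h1 : f.comp (Algebra.TensorProduct.includeLeft : (K374.St k N).O →ₐ[k] (HHG k N r1 rm).O) =
      f'.comp (Algebra.TensorProduct.includeLeft : (K374.St k N).O →ₐ[k] (HHG k N r1 rm).O) :=
    (K374.univS k N).ext hS
  have h2 : (f.comp (Algebra.TensorProduct.includeRight : (GG2 k r1 rm).O →ₐ[k] (HHG k N r1 rm).O)) =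
      (f'.comp (Algebra.TensorProduct.includeRight : (GG2 k r1 rm).O →ₐ[k] (HHG k N r1 rm).O)) := by
    refine Algebra.TensorProduct.ext' fun c d => ?_
    have h3 : (f.comp (Algebra.TensorProduct.includeRight : (GG2 k r1 rm).O →ₐ[k] (HHG k N r1 rm).O)).comp
        (Algebra.TensorProduct.includeLeft : (K653.GpGL r1 k).O →ₐ[k] (GG2 k r1 rm).O) =
        (f'.comp (Algebra.TensorProduct.includeRight : (GG2 k r1 rm).O →ₐ[k] (HHG k N r1 rm).O)).comp
        (Algebra.TensorProduct.includeLeft : (K653.GpGL r1 k).O →ₐ[k] (GG2 k r1 rm).O) :=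
      (K374.univ_gl (k := k) r1).ext hX
    have h4 : (f.comp (Algebra.TensorProduct.includeRight : (GG2 k r1 rm).O →ₐ[k] (HHG k N r1 rm).O)).comp
        (Algebra.TensorProduct.includeRight : (K653.GpGL rm k).O →ₐ[k] (GG2 k r1 rm).O) =
        (f'.comp (Algebra.TensorProduct.includeRight : (GG2 k r1 rm).O →ₐ[k] (HHG k N r1 rm).O)).comp
        (Algebra.TensorProduct.includeRight : (K653.GpGL rm k).O →ₐ[k] (GG2 k r1 rm).O) :=
      (K374.univ_gl (k := k) rm).ext hXm
    have e : (c ⊗ₜ[k] d : (GG2 k r1 rm).O) = (c ⊗ₜ[k] 1) * (1 ⊗ₜ[k] d) := by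
      rw [Algebra.TensorProduct.tmul_mul_tmul, one_mul, mul_one]
    rw [e, map_mul, map_mul]
    exact congrArg₂ (· * ·) (DFunLike.congr_fun h3 c) (DFunLike.congr_fun h4 d)
  have e : (a ⊗ₜ[k] b : (HHG k N r1 rm).O) = (a ⊗ₜ[k] 1) * (1 ⊗ₜ[k] b) := by
    rw [Algebra.TensorProduct.tmul_mul_tmul, one_mul, mul_one]
  rw [e, map_mul, map_mul]
  exact congrArg₂ (· * ·) (DFunLike.congr_fun h1 a) (DFunLike.congr_fun h2 b)

/-- **universal property of `O(H)`** -/
theorem existsUnique_pt (g : Matrix (Fin (N + 1)) (Fin (N + 1)) R) (hg : ∀ i, g i 0 = if i = 0 then 1 else 0)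
    (hg' : IsUnit g.det) (X : Matrix (Fin r1) (Fin r1) R) (hX : IsUnit X.det) (Xm : Matrix (Fin rm) (Fin rm) R)
    (hXm : IsUnit Xm.det) :
    ∃! f : (HHG k N r1 rm).O →ₐ[k] R, (gS k N r1 rm).map f = g ∧ (gX k N r1 rm).map f = X ∧
      (gXm k N r1 rm).map f = Xm := by
  refine ⟨pt g ⟨hg, hg'⟩ X hX Xm hXm, ⟨?_, ?_, ?_⟩, fun f' hf' => ?_⟩
  · ext i j; exact pt_gS _ _ _ _ _ _ i j
  · ext i j; exact pt_gX _ _ _ _ _ _ i j
  · ext i j; exact pt_gXm _ _ _ _ _ _ i j
  · refine ext_HH ?_ ?_ ?_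
    · rw [hf'.1]; ext i j; exact (pt_gS _ _ _ _ _ _ i j).symm
    · rw [hf'.2.1]; ext i j; exact (pt_gX _ _ _ _ _ _ i j).symm
    · rw [hf'.2.2]; ext i j; exact (pt_gXm _ _ _ _ _ _ i j).symm

/-- the product of two points (the convention of comodules: `h · h' = (h ⊗ h') ∘ comul`) -/
def pmul (h h' : (HHG k N r1 rm).O →ₐ[k] R) : (HHG k N r1 rm).O →ₐ[k] R :=
  (Algebra.TensorProduct.productMap h h').comp (Bialgebra.comulAlgHom k (HHG k N r1 rm).O)

/-- a multiplicative matrix is multiplicative on points -/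
lemma map_pmul {ι : Type} [Fintype ι] [DecidableEq ι] {Y : Matrix ι ι (HHG k N r1 rm).O} (hY : K62.IsMulMat k Y)
    (h h' : (HHG k N r1 rm).O →ₐ[k] R) : Y.map (pmul h h') = Y.map h * Y.map h' := by
  ext i j
  change (Algebra.TensorProduct.productMap h h') (Coalgebra.comul (R := k) (Y i j)) = _
  rw [hY.comul, map_sum, Matrix.mul_apply]
  rfl

end

/-- the output of G2 for the groups of G1 -/
def StmtKillHH : Prop :=
  ∀ (p : ℕ) (k : Type u) [CommRing k] (N r1 rm : ℕ), IsLb p k → Kill (HHG k N r1 rm)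

end Groth.Agent.ResProp.EF.K265
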