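import Groth.Agent.ResProp.EF.K62.FrAlg
import Mathlib.RingTheory.Bialgebra.GroupLike
import Mathlib.RingTheory.TensorProduct.Basic
import Mathlib.LinearAlgebra.Matrix.Determinant.Basic

/-!
# G1, node P3 (helper265): the coaction of `GL_r1 x GL_rm` on `F.R`

`F : FrRing D x` (`K412/Defs`).  `O` a commutative `Lb`-bialgebra with multiplicative invertible matrices `X`, `Xm`
(`GLPair`).  `rho F g : F.R →ₐ[A] F.R ⊗[Lb] O` is the RIGHT comodule structure (the convention of `HopfRep.Comod` /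
`Hoch`) with `rho M_bj = ∑ M_cj ⊗ X_cb`, i.e. on points `ψ · h = (X(h)ᵀ, Xm(h)ᵀ) • ψ`.
-/

set_option autoImplicit false
universe u

open Groth.Agent.Grpsch.AffGrpd TensorProduct
open scoped Matrix

namespace Groth.Agent.ResProp.EF.K265

open K412

section tens

variable {T : Type u} [CommRing T] {r m : ℕ}

/-- the `m`-th tensor power of a matrix -/
def tpow (m : ℕ) (X : Matrix (Fin r) (Fin r) T) : Matrix (Fin m → Fin r) (Fin m → Fin r) T :=
  fun Q J => ∏ k, X (Q k) (J k)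

lemma tpow_apply (X : Matrix (Fin r) (Fin r) T) (Q J : Fin m → Fin r) : tpow m X Q J = ∏ k, X (Q k) (J k) := rfl

lemma tpow_mul (X Y : Matrix (Fin r) (Fin r) T) : tpow m (X * Y) = tpow m X * tpow m Y := by
  ext Q J
  simp only [tpow_apply, Matrix.mul_apply]
  rw [Finset.prod_univ_sum, Fintype.piFinset_univ]
  refine Finset.sum_congr rfl fun K _ => ?_
  rw [Finset.prod_mul_distrib]

lemma tpow_one : tpow m (1 : Matrix (Fin r) (Fin r) T) = 1 := by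
  ext Q J
  simp only [tpow_apply, Matrix.one_apply]
  split_ifs with h
  · subst h
    exact Finset.prod_eq_one fun k _ => by simp
  · obtain ⟨k, hk⟩ := Function.ne_iff.1 h
    exact Finset.prod_eq_zero (Finset.mem_univ k) (by simp [hk])

lemma isUnit_tpow {X : Matrix (Fin r) (Fin r) T} (h : IsUnit X) : IsUnit (tpow m X) := by
  obtain ⟨u, rfl⟩ := h
  refine ⟨⟨tpow m (u : Matrix _ _ T), tpow m ((u⁻¹ : (Matrix _ _ T)ˣ) : Matrix _ _ T), ?_, ?_⟩, rfl⟩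
  · rw [← tpow_mul, u.mul_inv, tpow_one]
  · rw [← tpow_mul, u.inv_mul, tpow_one]

lemma tpow_map {T' : Type u} [CommRing T'] (f : T →+* T') (X : Matrix (Fin r) (Fin r) T) :
    tpow m (X.map f) = (tpow m X).map f := by
  ext Q J
  simp [tpow_apply, map_prod]

lemma cancel_tpow {l : Type*} {X : Matrix (Fin r) (Fin r) T} (h : IsUnit X) {U V : Matrix l (Fin m → Fin r) T}
    (e : U * tpow m X = V * tpow m X) : U = V := by
  obtain ⟨u, hu⟩ := isUnit_tpow (m := m) h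
  have h1 : tpow m X * ((u⁻¹ : (Matrix _ _ T)ˣ) : Matrix _ _ T) = 1 := by rw [← hu, u.mul_inv]
  calc U = U * (tpow m X * ((u⁻¹ : (Matrix _ _ T)ˣ) : Matrix _ _ T)) := by rw [h1, Matrix.mul_one]
    _ = V * (tpow m X * ((u⁻¹ : (Matrix _ _ T)ˣ) : Matrix _ _ T)) := by
      rw [← Matrix.mul_assoc, e, Matrix.mul_assoc]
    _ = V := by rw [h1, Matrix.mul_one]

lemma tpow_transpose (X : Matrix (Fin r) (Fin r) T) : tpow m Xᵀ = (tpow m X)ᵀ := by
  ext Q J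
  simp [tpow_apply]

end tens

section pts

variable {Lb A B : Type u} [CommRing Lb] [CommRing A] [CommRing B] [Algebra Lb A] {G : RGrpd A B} {D : Gen Lb G}
  {r1 rm : ℕ}

/-- the `mu`-condition as a matrix identity -/
lemma hmu_iff {T : Type u} [CommRing T] (X : Matrix (Fin r1) (Fin r1) T) (Xm : Matrix (Fin rm) (Fin rm) T)
    (P P' : FrPt D r1 rm T) :
    (∀ b (J : Fin D.m → Fin r1), ∑ Q : Fin D.m → Fin r1, P'.mu b Q * ∏ k, X (Q k) (J k) = ∑ d, Xm b d * P.mu d J) ↔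
      P'.mu * tpow D.m X = Xm * P.mu := by
  constructor
  · intro h
    ext b J
    exact h b J
  · intro h b J
    exact congrFun (congrFun h b) J

@[ext] lemma FrPt_ext {T : Type u} [CommRing T] {P P' : FrPt D r1 rm T} (ha : P.a = P'.a) (hM : P.M = P'.M)
    (hMm : P.Mm = P'.Mm) (hmu : P.mu = P'.mu) : P = P' := by
  cases P; cases P'; simp_all

/-- the translate is unique -/
lemma gUnique {T : Type u} [CommRing T] {X : Matrix (Fin r1) (Fin r1) T} {Xm : Matrix (Fin rm) (Fin rm) T}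
    (hX : IsUnit X) {P P₁ P₂ : FrPt D r1 rm T} (h₁ : IsGTrans X Xm P P₁) (h₂ : IsGTrans X Xm P P₂) : P₁ = P₂ := by
  refine FrPt_ext (h₁.ha.trans h₂.ha.symm) (h₁.hM.trans h₂.hM.symm) (h₁.hMm.trans h₂.hMm.symm) ?_
  have e₁ := (hmu_iff X Xm P P₁).1 h₁.hmu
  have e₂ := (hmu_iff X Xm P P₂).1 h₂.hmu
  exact cancel_tpow hX (e₁.trans e₂.symm)

lemma gOne {T : Type u} [CommRing T] (P : FrPt D r1 rm T) : IsGTrans 1 1 P P where
  ha := rfl
  hM := by rw [Matrix.one_mul]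
  hMm := by rw [Matrix.one_mul]
  hmu := (hmu_iff _ _ _ _).2 (by rw [tpow_one, Matrix.mul_one, Matrix.one_mul])

lemma gTrans {T : Type u} [CommRing T] {X Y : Matrix (Fin r1) (Fin r1) T} {Xm Ym : Matrix (Fin rm) (Fin rm) T}
    {P₁ P₂ P₃ : FrPt D r1 rm T} (h : IsGTrans X Xm P₁ P₂) (h' : IsGTrans Y Ym P₂ P₃) :
    IsGTrans (Y * X) (Ym * Xm) P₁ P₃ where
  ha := h'.ha.trans h.ha
  hM := by rw [h'.hM, h.hM, Matrix.mul_assoc]
  hMm := by rw [h'.hMm, h.hMm, Matrix.mul_assoc]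
  hmu := (hmu_iff _ _ _ _).2 (by
    rw [tpow_mul, ← Matrix.mul_assoc, (hmu_iff _ _ _ _).1 h'.hmu, Matrix.mul_assoc, (hmu_iff _ _ _ _).1 h.hmu,
      Matrix.mul_assoc])

lemma gMap {T T' : Type u} [CommRing T] [CommRing T'] (f : T →+* T') {X : Matrix (Fin r1) (Fin r1) T}
    {Xm : Matrix (Fin rm) (Fin rm) T} {P P' : FrPt D r1 rm T} (h : IsGTrans X Xm P P') :
    IsGTrans (X.map f) (Xm.map f) (P.map f) (P'.map f) where
  ha := by simp only [FrPt.map]; rw [h.ha]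
  hM := by
    change P'.M.map f = X.map f * P.M.map f
    rw [h.hM, Matrix.map_mul]
  hMm := by
    change P'.Mm.map f = Xm.map f * P.Mm.map f
    rw [h.hMm, Matrix.map_mul]
  hmu := (hmu_iff _ _ _ _).2 (by
    change P'.mu.map f * _ = _ * P.mu.map f
    rw [tpow_map, ← Matrix.map_mul, ← Matrix.map_mul, (hmu_iff _ _ _ _).1 h.hmu])

lemma tUnique {T : Type u} [CommRing T] {γ : B →+* T} {P P₁ P₂ : FrPt D r1 rm T} (h₁ : IsTrans γ P P₁)
    (h₂ : IsTrans γ P P₂) : P₁ = P₂ := by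
  refine FrPt_ext (h₁.tgt.symm.trans h₂.tgt) ?_ ?_ (h₁.hmu.trans h₂.hmu.symm)
  · ext b j; rw [h₁.hM, h₂.hM]
  · ext b j; rw [h₁.hMm, h₂.hMm]

/-- the two actions commute -/
lemma tComm {T : Type u} [CommRing T] {γ : B →+* T} {X : Matrix (Fin r1) (Fin r1) T}
    {Xm : Matrix (Fin rm) (Fin rm) T} (hX : IsUnit X) {P P₁ Q Q₁ : FrPt D r1 rm T} (h : IsTrans γ P P₁) (hQ : IsGTrans X Xm P Q)
    (hQ₁ : IsGTrans X Xm P₁ Q₁) : IsTrans γ Q Q₁ where
  src := h.src.trans hQ.ha.symm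
  tgt := h.tgt.trans hQ₁.ha.symm
  hM b j := by
    rw [hQ₁.hM, hQ.hM, Matrix.mul_apply]
    simp only [h.hM, Matrix.mul_apply, Finset.mul_sum, Finset.sum_mul]
    rw [Finset.sum_comm]
    exact Finset.sum_congr rfl fun i _ => Finset.sum_congr rfl fun c _ => by ring
  hMm b J := by
    rw [hQ₁.hMm, hQ.hMm, Matrix.mul_apply]
    simp only [h.hMm, Matrix.mul_apply, Finset.mul_sum, Finset.sum_mul]
    rw [Finset.sum_comm]
    exact Finset.sum_congr rfl fun i _ => Finset.sum_congr rfl fun c _ => by ring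
  hmu := cancel_tpow hX (((hmu_iff _ _ _ _).1 hQ₁.hmu).trans (h.hmu ▸ ((hmu_iff _ _ _ _).1 hQ.hmu).symm))

end pts

/-- two invertible multiplicative matrices over a bialgebra -/
structure GLPair (Lb O : Type u) [CommRing Lb] [CommRing O] [Bialgebra Lb O] (r1 rm : ℕ) where
  X : Matrix (Fin r1) (Fin r1) O
  Xm : Matrix (Fin rm) (Fin rm) O
  uX : IsUnit X
  uXm : IsUnit Xm
  dX : ∀ i j, Coalgebra.comul (R := Lb) (X i j) = ∑ k, X i k ⊗ₜ[Lb] X k j
  dXm : ∀ i j, Coalgebra.comul (R := Lb) (Xm i j) = ∑ k, Xm i k ⊗ₜ[Lb] Xm k j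
  eX : ∀ i j, Coalgebra.counit (R := Lb) (X i j) = if i = j then 1 else 0
  eXm : ∀ i j, Coalgebra.counit (R := Lb) (Xm i j) = if i = j then 1 else 0

section rho

variable {Lb A B : Type u} [CommRing Lb] [CommRing A] [CommRing B] [Algebra Lb A] {G : RGrpd A B} {D : Gen Lb G}
  {k : Type u} [Field k] {x : A →+* k} (F : FrRing D x)

/-- ring maps out of `F.R` are determined by the framed point -/
lemma hom_ext {T : Type u} [CommRing T] {f f' : F.R →+* T} (h : F.P.map f = F.P.map f') : f = f' := by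
  have ha : f.comp F.P.a = f'.comp F.P.a := congrArg FrPt.a h
  have hM : F.P.M.map f = F.P.M.map f' := congrArg FrPt.M h
  have hMm : F.P.Mm.map f = F.P.Mm.map f' := congrArg FrPt.Mm h
  have hmu : F.P.mu.map f = F.P.mu.map f' := congrArg FrPt.mu h
  refine RingHom.eq_of_eqOn_set_top ?_
  rw [← F.gen]
  refine RingHom.eqOn_set_closure ?_
  rintro y (((⟨a, rfl⟩ | ⟨z, rfl⟩) | ⟨z, rfl⟩) | ⟨z, rfl⟩)
  · exact RingHom.congr_fun ha a
  · exact congrFun (congrFun hM z.1) z.2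
  · exact congrFun (congrFun hMm z.1) z.2
  · exact congrFun (congrFun hmu z.1) z.2

/-- uniqueness of the translate under `GL_r1 x GL_rm` -/
lemma gact_unique {T : Type u} [CommRing T] {ψ ψ₁ ψ₂ : F.R →+* T} {X : Matrix (Fin F.r1) (Fin F.r1) T}
    {Xm : Matrix (Fin F.rm) (Fin F.rm) T} (hX : IsUnit X) (h₁ : IsGTrans X Xm (F.P.map ψ) (F.P.map ψ₁))
    (h₂ : IsGTrans X Xm (F.P.map ψ) (F.P.map ψ₂)) : ψ₁ = ψ₂ :=
  hom_ext F (gUnique hX h₁ h₂)

/-- uniqueness of the translate under an arrow -/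
lemma act_unique {T : Type u} [CommRing T] {ψ ψ₁ ψ₂ : F.R →+* T} {γ : B →+* T}
    (h₁ : IsTrans γ (F.P.map ψ) (F.P.map ψ₁)) (h₂ : IsTrans γ (F.P.map ψ) (F.P.map ψ₂)) : ψ₁ = ψ₂ :=
  hom_ext F (tUnique h₁ h₂)

variable {O : Type u} [CommRing O] [Bialgebra Lb O] (g : GLPair Lb O F.r1 F.rm)

/-- the universal point `O → S ⊗ O` as matrices, transposed -/
abbrev GLPair.Xt {r1 rm : ℕ} (g : GLPair Lb O r1 rm) : Matrix (Fin r1) (Fin r1) O := g.Xᵀ

abbrev GLPair.Xmt {r1 rm : ℕ} (g : GLPair Lb O r1 rm) : Matrix (Fin rm) (Fin rm) O := g.Xmᵀ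

lemma GLPair.uXt {r1 rm : ℕ} (g : GLPair Lb O r1 rm) : IsUnit g.Xt := by
  obtain ⟨u, hu⟩ := g.uX
  refine ⟨⟨(u : Matrix _ _ O)ᵀ, ((u⁻¹ : (Matrix _ _ O)ˣ) : Matrix _ _ O)ᵀ, ?_, ?_⟩, congrArg Matrix.transpose hu⟩
  · rw [← Matrix.transpose_mul, u.inv_mul, Matrix.transpose_one]
  · rw [← Matrix.transpose_mul, u.mul_inv, Matrix.transpose_one]

lemma GLPair.uXmt {r1 rm : ℕ} (g : GLPair Lb O r1 rm) : IsUnit g.Xmt := by
  obtain ⟨u, hu⟩ := g.uXm
  refine ⟨⟨(u : Matrix _ _ O)ᵀ, ((u⁻¹ : (Matrix _ _ O)ˣ) : Matrix _ _ O)ᵀ, ?_, ?_⟩, congrArg Matrix.transpose hu⟩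
  · rw [← Matrix.transpose_mul, u.inv_mul, Matrix.transpose_one]
  · rw [← Matrix.transpose_mul, u.mul_inv, Matrix.transpose_one]

omit F in
lemma isUnit_map {T : Type u} [CommRing T] {r : ℕ} {Y : Matrix (Fin r) (Fin r) O} (h : IsUnit Y) (f : O →+* T) :
    IsUnit (Y.map f) := h.map f.mapMatrix

/-- `O → F.R ⊗ O` -/
abbrev inO : O →+* F.R ⊗[Lb] O := (Algebra.TensorProduct.includeRight : O →ₐ[Lb] F.R ⊗[Lb] O).toRingHom

/-- `F.R → F.R ⊗ O` -/
abbrev inR : F.R →+* F.R ⊗[Lb] O := (Algebra.TensorProduct.includeLeftRingHom : F.R →+* F.R ⊗[Lb] O)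

lemma exists_rho : ∃ ψ : F.R →+* F.R ⊗[Lb] O, IsGTrans (g.Xt.map (inO F)) (g.Xmt.map (inO F))
    (F.P.map (inR F (O := O))) (F.P.map ψ) :=
  F.gact (inR F) _ _ (isUnit_map g.uXt _) (isUnit_map g.uXmt _)

/-- the coaction as a ring map -/
noncomputable def rhoRing : F.R →+* F.R ⊗[Lb] O := (exists_rho F g).choose

lemma rhoRing_spec : IsGTrans (g.Xt.map (inO F)) (g.Xmt.map (inO F)) (F.P.map (inR F (O := O)))
    (F.P.map (rhoRing F g)) := (exists_rho F g).choose_spec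

/-- **the coaction**, `A`-linear -/
noncomputable def rho : F.R →ₐ[A] F.R ⊗[Lb] O :=
  { rhoRing F g with
    commutes' := fun a => by
      have h := RingHom.congr_fun (rhoRing_spec F g).ha a
      exact h }

@[simp] lemma rho_apply (z : F.R) : rho F g z = rhoRing F g z := rfl

lemma rho_M (b : Fin F.r1) (j : Fin D.n) : rho F g (F.P.M b j) = ∑ c, F.P.M c j ⊗ₜ[Lb] g.X c b := by
  have h := congrFun (congrFun (rhoRing_spec F g).hM b) j
  rw [Matrix.mul_apply] at h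
  refine h.trans (Finset.sum_congr rfl fun c _ => ?_)
  change (1 : F.R) ⊗ₜ[Lb] (g.X c b) * (F.P.M c j ⊗ₜ[Lb] (1 : O)) = _
  rw [Algebra.TensorProduct.tmul_mul_tmul, one_mul, mul_one]

lemma rho_Mm (b : Fin F.rm) (J : Fin D.m → Fin D.n) :
    rho F g (F.P.Mm b J) = ∑ c, F.P.Mm c J ⊗ₜ[Lb] g.Xm c b := by
  have h := congrFun (congrFun (rhoRing_spec F g).hMm b) J
  rw [Matrix.mul_apply] at h
  refine h.trans (Finset.sum_congr rfl fun c _ => ?_)
  change (1 : F.R) ⊗ₜ[Lb] (g.Xm c b) * (F.P.Mm c J ⊗ₜ[Lb] (1 : O)) = _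
  rw [Algebra.TensorProduct.tmul_mul_tmul, one_mul, mul_one]

lemma rho_mu (b : Fin F.rm) (J : Fin D.m → Fin F.r1) :
    ∑ Q : Fin D.m → Fin F.r1, rho F g (F.P.mu b Q) * ((1 : F.R) ⊗ₜ[Lb] ∏ k, g.X (J k) (Q k)) =
      ∑ d, F.P.mu d J ⊗ₜ[Lb] g.Xm d b := by
  have h := (rhoRing_spec F g).hmu b J
  have h1 : ∀ Q : Fin D.m → Fin F.r1, (∏ k, (g.Xt.map (inO F)) (Q k) (J k)) =
      (1 : F.R) ⊗ₜ[Lb] ∏ k, g.X (J k) (Q k) := fun Q => by
    change (∏ k, inO F (g.X (J k) (Q k))) = inO F (∏ k, g.X (J k) (Q k))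
    rw [map_prod]
  simp only [h1] at h
  refine h.trans (Finset.sum_congr rfl fun c _ => ?_)
  change (1 : F.R) ⊗ₜ[Lb] (g.Xm c b) * (F.P.mu c J ⊗ₜ[Lb] (1 : O)) = _
  rw [Algebra.TensorProduct.tmul_mul_tmul, one_mul, mul_one]

/-- **universal property on points**: `(ψ ⊗ h) ∘ rho` is the translate of `ψ` by `(X(h)ᵀ, Xm(h)ᵀ)` -/
lemma rho_point {T : Type u} [CommRing T] (ψ : F.R →+* T) (h : O →+* T)
    (e : F.R ⊗[Lb] O →+* T) (e₁ : e.comp (inR F) = ψ) (e₂ : e.comp (inO F) = h) :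
    IsGTrans (g.Xᵀ.map h) (g.Xmᵀ.map h) (F.P.map ψ) (F.P.map (e.comp (rhoRing F g))) := by
  subst e₁ e₂
  exact gMap e (rhoRing_spec F g)

/-- the coaction, `Lb`-linear -/
noncomputable abbrev rhoL : F.R →ₐ[Lb] F.R ⊗[Lb] O := (rho F g).restrictScalars Lb

lemma rhoL_apply (z : F.R) : rhoL F g z = rho F g z := rfl

/-- counit -/
lemma rho_counit (z : F.R) : (Coalgebra.counit (R := Lb) (A := O)).lTensor F.R (rho F g z) = z ⊗ₜ[Lb] (1 : Lb) := by
  let e : F.R ⊗[Lb] O →ₐ[Lb] F.R := (Algebra.TensorProduct.rid Lb Lb F.R).toAlgHom.comp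
    (Algebra.TensorProduct.map (AlgHom.id Lb F.R) (Bialgebra.counitAlgHom Lb O))
  have h := rho_point F g (RingHom.id F.R) ((algebraMap Lb F.R).comp (Bialgebra.counitAlgHom Lb O).toRingHom)
    e.toRingHom (by
      refine RingHom.ext fun z => ?_
      change (Algebra.TensorProduct.rid Lb Lb F.R) (z ⊗ₜ[Lb] (Bialgebra.counitAlgHom Lb O 1)) = z
      simp) (by
      refine RingHom.ext fun z => ?_
      change (Algebra.TensorProduct.rid Lb Lb F.R) ((1 : F.R) ⊗ₜ[Lb] (Bialgebra.counitAlgHom Lb O z)) = _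
      simp [Algebra.algebraMap_eq_smul_one])
  have hX : (g.Xᵀ.map ((algebraMap Lb F.R).comp (Bialgebra.counitAlgHom Lb O).toRingHom)) = 1 := by
    ext i j
    change algebraMap Lb F.R (Coalgebra.counit (R := Lb) (g.X j i)) = _
    rw [g.eX, Matrix.one_apply]
    by_cases hij : i = j
    · subst hij; simp
    · rw [if_neg hij, if_neg (Ne.symm hij), map_zero]
  have hXm : (g.Xmᵀ.map ((algebraMap Lb F.R).comp (Bialgebra.counitAlgHom Lb O).toRingHom)) = 1 := by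
    ext i j
    change algebraMap Lb F.R (Coalgebra.counit (R := Lb) (g.Xm j i)) = _
    rw [g.eXm, Matrix.one_apply]
    by_cases hij : i = j
    · subst hij; simp
    · rw [if_neg hij, if_neg (Ne.symm hij), map_zero]
  rw [hX, hXm] at h
  have h2 : e.toRingHom.comp (rhoRing F g) = RingHom.id F.R :=
    hom_ext F (gUnique isUnit_one h (gOne _))
  have h3 : e (rho F g z) = z := RingHom.congr_fun h2 z
  have h4 : (Algebra.TensorProduct.rid Lb Lb F.R).symm (e (rho F g z)) =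
      (Coalgebra.counit (R := Lb) (A := O)).lTensor F.R (rho F g z) := by
    change (Algebra.TensorProduct.rid Lb Lb F.R).symm ((Algebra.TensorProduct.rid Lb Lb F.R) _) = _
    rw [AlgEquiv.symm_apply_apply]
    rfl
  rw [← h4, h3]
  rfl

/-- coassociativity -/
lemma rho_coassoc (z : F.R) : TensorProduct.assoc Lb F.R O O ((rhoL F g).toLinearMap.rTensor O (rho F g z)) =
    (Coalgebra.comul (R := Lb) (A := O)).lTensor F.R (rho F g z) := by
  let iR : F.R →+* F.R ⊗[Lb] (O ⊗[Lb] O) := Algebra.TensorProduct.includeLeftRingHom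
  let e₀ : F.R ⊗[Lb] O →ₐ[Lb] F.R ⊗[Lb] (O ⊗[Lb] O) :=
    Algebra.TensorProduct.map (AlgHom.id Lb F.R) Algebra.TensorProduct.includeLeft
  let e₁ : F.R ⊗[Lb] O →ₐ[Lb] F.R ⊗[Lb] (O ⊗[Lb] O) :=
    (Algebra.TensorProduct.assoc Lb Lb Lb F.R O O).toAlgHom.comp
      (Algebra.TensorProduct.map (rhoL F g) (AlgHom.id Lb O))
  let e₂ : F.R ⊗[Lb] O →ₐ[Lb] F.R ⊗[Lb] (O ⊗[Lb] O) :=
    Algebra.TensorProduct.map (AlgHom.id Lb F.R) (Bialgebra.comulAlgHom Lb O)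
  let j₁ : O →+* F.R ⊗[Lb] (O ⊗[Lb] O) := e₀.toRingHom.comp (inO F)
  let j₂ : O →+* F.R ⊗[Lb] (O ⊗[Lb] O) := e₁.toRingHom.comp (inO F)
  let j₃ : O →+* F.R ⊗[Lb] (O ⊗[Lb] O) := e₂.toRingHom.comp (inO F)
  have he₀ : e₀.toRingHom.comp (inR F) = iR := by
    refine RingHom.ext fun z => ?_
    change (z ⊗ₜ[Lb] ((1 : O) ⊗ₜ[Lb] (1 : O)) : F.R ⊗[Lb] (O ⊗[Lb] O)) = z ⊗ₜ[Lb] (1 : O ⊗[Lb] O)
    rfl
  have he₂ : e₂.toRingHom.comp (inR F) = iR := by
    refine RingHom.ext fun z => ?_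
    change (z ⊗ₜ[Lb] (Bialgebra.comulAlgHom Lb O 1) : F.R ⊗[Lb] (O ⊗[Lb] O)) = z ⊗ₜ[Lb] (1 : O ⊗[Lb] O)
    rw [map_one]
  have he₁ : e₁.toRingHom.comp (inR F) = e₀.toRingHom.comp (rhoRing F g) := by
    refine RingHom.ext fun z => ?_
    change (Algebra.TensorProduct.assoc Lb Lb Lb F.R O O) (rho F g z ⊗ₜ[Lb] (1 : O)) = e₀ (rho F g z)
    induction rho F g z using TensorProduct.induction_on with
    | zero => simp
    | tmul a b => rfl
    | add a b ha hb => rw [TensorProduct.add_tmul, map_add, ha, hb, map_add]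
  have h₀ := rho_point F g iR j₁ e₀.toRingHom he₀ rfl
  have h₁ := rho_point F g (e₀.toRingHom.comp (rhoRing F g)) j₂ e₁.toRingHom he₁ rfl
  have h₂ := rho_point F g iR j₃ e₂.toRingHom he₂ rfl
  have h₃ := gTrans h₀ h₁
  have hX : (g.Xᵀ.map j₂) * (g.Xᵀ.map j₁) = g.Xᵀ.map j₃ := by
    ext i j
    change ∑ c, j₂ (g.X c i) * j₁ (g.X j c) = j₃ (g.X j i)
    change _ = ((1 : F.R) ⊗ₜ[Lb] (Coalgebra.comul (R := Lb) (g.X j i)) : F.R ⊗[Lb] (O ⊗[Lb] O))
    rw [g.dX, TensorProduct.tmul_sum]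
    refine Finset.sum_congr rfl fun c _ => ?_
    change (Algebra.TensorProduct.assoc Lb Lb Lb F.R O O) ((rhoL F g 1) ⊗ₜ[Lb] g.X c i) *
      ((1 : F.R) ⊗ₜ[Lb] (g.X j c ⊗ₜ[Lb] (1 : O))) = _
    rw [map_one, Algebra.TensorProduct.one_def]
    change ((1 : F.R) ⊗ₜ[Lb] ((1 : O) ⊗ₜ[Lb] g.X c i)) * ((1 : F.R) ⊗ₜ[Lb] (g.X j c ⊗ₜ[Lb] (1 : O))) = _
    simp only [Algebra.TensorProduct.tmul_mul_tmul, one_mul, mul_one]
  have hXm : (g.Xmᵀ.map j₂) * (g.Xmᵀ.map j₁) = g.Xmᵀ.map j₃ := by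
    ext i j
    change ∑ c, j₂ (g.Xm c i) * j₁ (g.Xm j c) = j₃ (g.Xm j i)
    change _ = ((1 : F.R) ⊗ₜ[Lb] (Coalgebra.comul (R := Lb) (g.Xm j i)) : F.R ⊗[Lb] (O ⊗[Lb] O))
    rw [g.dXm, TensorProduct.tmul_sum]
    refine Finset.sum_congr rfl fun c _ => ?_
    change (Algebra.TensorProduct.assoc Lb Lb Lb F.R O O) ((rhoL F g 1) ⊗ₜ[Lb] g.Xm c i) *
      ((1 : F.R) ⊗ₜ[Lb] (g.Xm j c ⊗ₜ[Lb] (1 : O))) = _
    rw [map_one, Algebra.TensorProduct.one_def]
    change ((1 : F.R) ⊗ₜ[Lb] ((1 : O) ⊗ₜ[Lb] g.Xm c i)) * ((1 : F.R) ⊗ₜ[Lb] (g.Xm j c ⊗ₜ[Lb] (1 : O))) = _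
    simp only [Algebra.TensorProduct.tmul_mul_tmul, one_mul, mul_one]
  rw [hX, hXm] at h₃
  have h₄ : e₁.toRingHom.comp (rhoRing F g) = e₂.toRingHom.comp (rhoRing F g) :=
    hom_ext F (gUnique (isUnit_map g.uXt _) h₃ h₂)
  exact RingHom.congr_fun h₄ z

/-- the minors are semi-invariant -/
lemma rho_det (I : Fin F.r1 → Fin D.n) :
    rho F g (F.P.M.submatrix id I).det = (F.P.M.submatrix id I).det ⊗ₜ[Lb] g.X.det := by
  have h : (F.P.M.submatrix id I).map (rho F g) =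
      (g.Xᵀ.map (inO F)) * ((F.P.M.submatrix id I).map (inR F (O := O))) := by
    have := (rhoRing_spec F g).hM
    ext b j
    exact congrFun (congrFun this b) (I j)
  have h2 : rho F g (F.P.M.submatrix id I).det = ((F.P.M.submatrix id I).map (rho F g)).det :=
    (rho F g).toRingHom.map_det _
  rw [h2, h, Matrix.det_mul]
  have h3 : (g.Xᵀ.map (inO F)).det = (1 : F.R) ⊗ₜ[Lb] g.X.det := by
    rw [← RingHom.mapMatrix_apply, ← RingHom.map_det, Matrix.det_transpose]; rfl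
  have h4 : ((F.P.M.submatrix id I).map (inR F (O := O))).det = (F.P.M.submatrix id I).det ⊗ₜ[Lb] (1 : O) := by
    rw [← RingHom.mapMatrix_apply, ← RingHom.map_det]; rfl
  rw [h3, h4, Algebra.TensorProduct.tmul_mul_tmul, one_mul, mul_one]

lemma rho_detm (I : Fin F.rm → Fin D.m → Fin D.n) :
    rho F g (F.P.Mm.submatrix id I).det = (F.P.Mm.submatrix id I).det ⊗ₜ[Lb] g.Xm.det := by
  have h : (F.P.Mm.submatrix id I).map (rho F g) =
      (g.Xmᵀ.map (inO F)) * ((F.P.Mm.submatrix id I).map (inR F (O := O))) := by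
    have := (rhoRing_spec F g).hMm
    ext b j
    exact congrFun (congrFun this b) (I j)
  have h2 : rho F g (F.P.Mm.submatrix id I).det = ((F.P.Mm.submatrix id I).map (rho F g)).det :=
    (rho F g).toRingHom.map_det _
  rw [h2, h, Matrix.det_mul]
  have h3 : (g.Xmᵀ.map (inO F)).det = (1 : F.R) ⊗ₜ[Lb] g.Xm.det := by
    rw [← RingHom.mapMatrix_apply, ← RingHom.map_det, Matrix.det_transpose]; rfl
  have h4 : ((F.P.Mm.submatrix id I).map (inR F (O := O))).det = (F.P.Mm.submatrix id I).det ⊗ₜ[Lb] (1 : O) := by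
    rw [← RingHom.mapMatrix_apply, ← RingHom.map_det]; rfl
  rw [h3, h4, Algebra.TensorProduct.tmul_mul_tmul, one_mul, mul_one]

/-- `s_IJ` -/
def sIJ (I : Fin F.r1 → Fin D.n) (J : Fin F.rm → Fin D.m → Fin D.n) : F.R :=
  (F.P.M.submatrix id I).det * (F.P.Mm.submatrix id J).det

/-- the weight -/
def GLPair.chi {r1 rm : ℕ} (g : GLPair Lb O r1 rm) : O := g.X.det * g.Xm.det

/-- **`rho s_IJ = s_IJ ⊗ chi`** -/
lemma rho_sIJ (I : Fin F.r1 → Fin D.n) (J : Fin F.rm → Fin D.m → Fin D.n) :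
    rho F g (sIJ F I J) = sIJ F I J ⊗ₜ[Lb] g.chi := by
  rw [sIJ, map_mul, rho_det, rho_detm, Algebra.TensorProduct.tmul_mul_tmul]; rfl

omit F in
lemma isGroupLike_det {r : ℕ} (X : Matrix (Fin r) (Fin r) O)
    (dX : ∀ i j, Coalgebra.comul (R := Lb) (X i j) = ∑ k, X i k ⊗ₜ[Lb] X k j)
    (eX : ∀ i j, Coalgebra.counit (R := Lb) (X i j) = if i = j then 1 else 0) : IsGroupLikeElem Lb X.det where
  counit_eq_one := by
    have h : (Bialgebra.counitAlgHom Lb O).toRingHom X.det = (X.map (Bialgebra.counitAlgHom Lb O).toRingHom).det := by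
      rw [RingHom.map_det]; rfl
    have h2 : X.map (Bialgebra.counitAlgHom Lb O).toRingHom = 1 := by
      ext i j
      exact (eX i j).trans (Matrix.one_apply).symm
    rw [h2, Matrix.det_one] at h
    exact h
  comul_eq_tmul_self := by
    have h : (Bialgebra.comulAlgHom Lb O).toRingHom X.det = (X.map (Bialgebra.comulAlgHom Lb O).toRingHom).det := by
      rw [RingHom.map_det]; rfl
    let a : O →+* O ⊗[Lb] O := Algebra.TensorProduct.includeLeftRingHom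
    let b : O →+* O ⊗[Lb] O := (Algebra.TensorProduct.includeRight : O →ₐ[Lb] O ⊗[Lb] O).toRingHom
    have h2 : X.map (Bialgebra.comulAlgHom Lb O).toRingHom = X.map a * X.map b := by
      ext i j
      refine (dX i j).trans ?_
      rw [Matrix.mul_apply]
      refine Finset.sum_congr rfl fun c _ => ?_
      change _ = (X i c ⊗ₜ[Lb] (1 : O)) * ((1 : O) ⊗ₜ[Lb] X c j)
      rw [Algebra.TensorProduct.tmul_mul_tmul, one_mul, mul_one]
    have h3 : (X.map a).det = X.det ⊗ₜ[Lb] (1 : O) := by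
      rw [← RingHom.mapMatrix_apply, ← RingHom.map_det]; rfl
    have h4 : (X.map b).det = (1 : O) ⊗ₜ[Lb] X.det := by
      rw [← RingHom.mapMatrix_apply, ← RingHom.map_det]; rfl
    rw [h2, Matrix.det_mul, h3, h4, Algebra.TensorProduct.tmul_mul_tmul, one_mul, mul_one] at h
    exact h

lemma GLPair.isGroupLike_chi {r1 rm : ℕ} (g : GLPair Lb O r1 rm) : IsGroupLikeElem Lb g.chi :=
  (isGroupLike_det g.X g.dX g.eX).mul (isGroupLike_det g.Xm g.dXm g.eXm)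

lemma GLPair.isUnit_chi {r1 rm : ℕ} (g : GLPair Lb O r1 rm) : IsUnit g.chi :=
  ((Matrix.isUnit_iff_isUnit_det _).1 g.uX).mul ((Matrix.isUnit_iff_isUnit_det _).1 g.uXm)

/-- **rho commutes with the groupoid, on points**: `γ • (ψ · h) = (γ • ψ) · h`. -/
lemma act_rho {T : Type u} [CommRing T] (ψ ψ' : F.R →+* T) (h : O →+* T) (γ : B →+* T)
    (hγ : IsTrans γ (F.P.map ψ) (F.P.map ψ'))
    (e e' : F.R ⊗[Lb] O →+* T) (e₁ : e.comp (inR F) = ψ) (e₂ : e.comp (inO F) = h)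
    (e₁' : e'.comp (inR F) = ψ') (e₂' : e'.comp (inO F) = h) :
    IsTrans γ (F.P.map (e.comp (rho F g).toRingHom)) (F.P.map (e'.comp (rho F g).toRingHom)) :=
  tComm (isUnit_map g.uXt h) hγ (rho_point F g ψ h e e₁ e₂) (rho_point F g ψ' h e' e₁' e₂')

end rho

end Groth.Agent.ResProp.EF.K265
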